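import Groth.Agent.L16.Chow.Core
import Mathlib.AlgebraicGeometry.Limits
import Mathlib.AlgebraicGeometry.Morphisms.FiniteType
import Mathlib.AlgebraicGeometry.Noetherian
import Mathlib.AlgebraicGeometry.PullbackCarrier

/-!
Gluing two separated schemes along mutual quasi-dominations.
-/

set_option linter.style.haveILetI false
set_option backward.isDefEq.respectTransparency.types false

universe u

open CategoryTheory CategoryTheory.Limits AlgebraicGeometry TopologicalSpace

namespace Groth.Agent.L24.QDomGlue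

variable {S Y A B : Scheme.{u}}

/-- A closed graph containing a dense part is the closure of that part. -/
theorem range_eq_closure {U W P : Scheme.{u}} (k : U ⟶ W) [IsDominant k] (g : W ⟶ P)
    (hg : IsClosed (Set.range g)) : Set.range g = closure (Set.range (k ≫ g)) := by
  refine Set.Subset.antisymm ?_ (closure_minimal ?_ hg)
  · rintro _ ⟨w, rfl⟩
    refine (image_closure_subset_closure_image g.continuous).trans ?_ ⟨w, k.denseRange w, rfl⟩
    refine closure_mono ?_
    rintro _ ⟨_, ⟨u, rfl⟩, rfl⟩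
    exact ⟨u, Scheme.Hom.comp_apply k g u⟩
  · rintro _ ⟨u, rfl⟩
    exact ⟨k u, (Scheme.Hom.comp_apply k g u).symm⟩

theorem range_lift_swap {W X₁ X₂ : Scheme.{u}} {p₁ : X₁ ⟶ S} {p₂ : X₂ ⟶ S} (a : W ⟶ X₁) (b : W ⟶ X₂)
    (h : a ≫ p₁ = b ≫ p₂) :
    pullback.lift b a h.symm ≫ (pullbackSymmetry p₂ p₁).hom = pullback.lift a b h := by
  apply pullback.hom_ext <;> simp only [pullback.map, pullback.congrHom, asIso_hom, Category.assoc, Category.comp_id, Category.id_comp, pullback.lift_fst, pullback.lift_snd, pullback.lift_fst_assoc, pullback.lift_snd_assoc, pullbackSymmetry_hom_comp_fst, pullbackSymmetry_hom_comp_snd, pullbackSymmetry_hom_comp_fst_assoc, pullbackSymmetry_hom_comp_snd_assoc, pullback.diagonal_fst, pullback.diagonal_snd]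

theorem isClosed_range_comp_iso {W P Q : Scheme.{u}} (g : W ⟶ P) (e : P ≅ Q) (hg : IsClosed (Set.range g)) :
    IsClosed (Set.range (g ≫ e.hom)) := by
  have : Set.range (g ≫ e.hom) = e.hom '' Set.range g := by
    rw [← Set.range_comp]
    exact congrArg Set.range (funext fun w => Scheme.Hom.comp_apply g e.hom w)
  rw [this]
  exact e.hom.homeomorph.isClosedMap _ hg

/-- The canonical map of `A ×_Y B` to `A ×_S B`. -/
noncomputable def toProd (i : A ⟶ Y) (j : B ⟶ Y) (q : Y ⟶ S) :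
    pullback i j ⟶ pullback (i ≫ q) (j ≫ q) :=
  pullback.lift (pullback.fst i j) (pullback.snd i j) (by rw [pullback.condition_assoc])

theorem preimage_range_diagonal (i : A ⟶ Y) (j : B ⟶ Y) (q : Y ⟶ S) :
    pullback.map (i ≫ q) (j ≫ q) q q i j (𝟙 S) (Category.comp_id _) (Category.comp_id _) ⁻¹'
      Set.range (pullback.diagonal q) = Set.range (toProd i j q) := by
  set m := pullback.map (i ≫ q) (j ≫ q) q q i j (𝟙 S) (Category.comp_id _) (Category.comp_id _)
  rw [← Scheme.Pullback.range_fst]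
  have hc := pullback.condition (f := m) (g := pullback.diagonal q)
  have h1 := congrArg (· ≫ pullback.fst q q) hc
  have h2 := congrArg (· ≫ pullback.snd q q) hc
  simp only [m, Category.assoc, pullback.lift_fst, pullback.lift_snd, pullback.diagonal_fst,
    pullback.diagonal_snd, Category.comp_id] at h1 h2
  refine Set.Subset.antisymm ?_ ?_
  · rintro _ ⟨w, rfl⟩
    refine ⟨pullback.lift (pullback.fst m _ ≫ pullback.fst _ _) (pullback.fst m _ ≫ pullback.snd _ _)
      (by simp only [Category.assoc]; rw [h1, h2]) w, ?_⟩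
    rw [← Scheme.Hom.comp_apply]
    refine congrArg (fun (φ : pullback m (pullback.diagonal q) ⟶ _) => φ w) ?_
    apply pullback.hom_ext <;> simp only [toProd, pullback.map, pullback.congrHom, asIso_hom, Category.assoc, Category.comp_id, Category.id_comp, pullback.lift_fst, pullback.lift_snd, pullback.lift_fst_assoc, pullback.lift_snd_assoc, pullbackSymmetry_hom_comp_fst, pullbackSymmetry_hom_comp_snd, pullbackSymmetry_hom_comp_fst_assoc, pullbackSymmetry_hom_comp_snd_assoc, pullback.diagonal_fst, pullback.diagonal_snd]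
  · rintro _ ⟨w, rfl⟩
    refine ⟨pullback.lift (toProd i j q) (pullback.fst i j ≫ i) ?_ w, ?_⟩
    · apply pullback.hom_ext
      · simp only [m, toProd, pullback.map, pullback.congrHom, asIso_hom, Category.assoc, Category.comp_id, Category.id_comp, pullback.lift_fst, pullback.lift_snd, pullback.lift_fst_assoc, pullback.lift_snd_assoc, pullbackSymmetry_hom_comp_fst, pullbackSymmetry_hom_comp_snd, pullbackSymmetry_hom_comp_fst_assoc, pullbackSymmetry_hom_comp_snd_assoc, pullback.diagonal_fst, pullback.diagonal_snd]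
      · simp only [m, toProd, pullback.map, pullback.congrHom, asIso_hom, Category.assoc, Category.comp_id, Category.id_comp, pullback.lift_fst, pullback.lift_snd, pullback.lift_fst_assoc, pullback.lift_snd_assoc, pullbackSymmetry_hom_comp_fst, pullbackSymmetry_hom_comp_snd, pullbackSymmetry_hom_comp_fst_assoc, pullbackSymmetry_hom_comp_snd_assoc, pullback.diagonal_fst, pullback.diagonal_snd]; exact pullback.condition.symm
    · rw [← Scheme.Hom.comp_apply, pullback.lift_fst]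

/-- A scheme covered by two opens with closed pairwise graphs is separated. -/
theorem isSeparated_of_two (q : Y ⟶ S) {X : Bool → Scheme.{u}} (i : ∀ b, X b ⟶ Y)
    [∀ b, IsOpenImmersion (i b)] (hcov : ∀ y : Y, ∃ b, y ∈ Set.range (i b))
    (hcl : ∀ a b, IsClosed (Set.range (toProd (i a) (i b) q))) : IsSeparated q := by
  refine ⟨IsClosedImmersion.of_isPreimmersion _ ?_⟩
  rw [← isOpen_compl_iff, isOpen_iff_forall_mem_open]
  intro z hz
  obtain ⟨a, x, hx⟩ := hcov (pullback.fst q q z)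
  obtain ⟨b, y, hy⟩ := hcov (pullback.snd q q z)
  let m := pullback.map (i a ≫ q) (i b ≫ q) q q (i a) (i b) (𝟙 S) (Category.comp_id _) (Category.comp_id _)
  have hm : Set.range m = pullback.fst q q ⁻¹' Set.range (i a) ∩ pullback.snd q q ⁻¹' Set.range (i b) :=
    Scheme.Pullback.range_map _ _ _ _ _ _ _ _ _
  have hzm : z ∈ Set.range m := hm ▸ ⟨⟨x, hx⟩, ⟨y, hy⟩⟩
  refine ⟨m '' (m ⁻¹' Set.range (pullback.diagonal q))ᶜ, ?_, ?_, ?_⟩
  · rintro _ ⟨w, hw, rfl⟩
    exact hw
  · refine m.isOpenEmbedding.isOpenMap _ ?_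
    rw [preimage_range_diagonal]
    exact (hcl a b).isOpen_compl
  · obtain ⟨w, rfl⟩ := hzm
    exact ⟨w, hz, rfl⟩

/-- Two points of the pieces identified in a pushout along open immersions come from the common open. -/
theorem preimage_opensRange_inl {W X₁ X₂ : Scheme.{u}} (g₁ : W ⟶ X₁) (g₂ : W ⟶ X₂) [IsOpenImmersion g₁]
    [IsOpenImmersion g₂] (x : X₁) (y : X₂) (h : pushout.inl g₁ g₂ x = pushout.inr g₁ g₂ y) :
    ∃ w, g₁ w = x ∧ g₂ w = y := by
  obtain ⟨k, fi, fj, w, h1, h2⟩ := (Scheme.IsLocallyDirected.ι_eq_ι_iff (span g₁ g₂)).1 h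
  obtain (_ | (_ | _)) := k
  · cases fi; cases fj
    exact ⟨w, h1, h2⟩
  · cases fj
  · cases fi

theorem isPullback_pushout {W X₁ X₂ : Scheme.{u}} (g₁ : W ⟶ X₁) (g₂ : W ⟶ X₂) [IsOpenImmersion g₁]
    [IsOpenImmersion g₂] : IsPullback g₁ g₂ (pushout.inl g₁ g₂) (pushout.inr g₁ g₂) := by
  haveI : IsOpenImmersion (pushout.inl g₁ g₂) := inferInstanceAs (IsOpenImmersion (colimit.ι (span g₁ g₂) _))
  haveI : IsOpenImmersion (pushout.inr g₁ g₂) := inferInstanceAs (IsOpenImmersion (colimit.ι (span g₁ g₂) _))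
  refine IsOpenImmersion.isPullback g₁ g₂ (pushout.inl g₁ g₂) (pushout.inr g₁ g₂) pushout.condition.symm ?_
  ext y
  constructor
  · rintro ⟨x, hx⟩
    obtain ⟨w, -, hw⟩ := preimage_opensRange_inl g₁ g₂ x y hx
    exact ⟨w, hw⟩
  · rintro ⟨w, rfl⟩
    refine ⟨g₁ w, ?_⟩
    rw [← Scheme.Hom.comp_apply, ← Scheme.Hom.comp_apply, pushout.condition]

theorem main {S X₁ X₂ U : Scheme.{u}} [IsNoetherian S]
    (p₁ : X₁ ⟶ S) (p₂ : X₂ ⟶ S) [IsSeparated p₁] [QuasiCompact p₁] [LocallyOfFiniteType p₁]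
    [IsSeparated p₂] [QuasiCompact p₂] [LocallyOfFiniteType p₂]
    (j₁ : U ⟶ X₁) (j₂ : U ⟶ X₂) [IsOpenImmersion j₁] [IsOpenImmersion j₂]
    [IsSchemeTheoreticallyDominant j₁] [IsSchemeTheoreticallyDominant j₂] (hj : j₁ ≫ p₁ = j₂ ≫ p₂)
    (W₁ : X₁.Opens) (φ : (↑W₁ : Scheme.{u}) ⟶ X₂) (hφ : W₁.ι ≫ p₁ = φ ≫ p₂)
    (hφc : IsClosed (Set.range (fun w => (pullback.lift W₁.ι φ hφ) w)))
    (k₁ : U ⟶ ↑W₁) (hk₁ : k₁ ≫ W₁.ι = j₁) (hk₁' : k₁ ≫ φ = j₂)
    (W₂ : X₂.Opens) (ψ : (↑W₂ : Scheme.{u}) ⟶ X₁)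
    (hψ : W₂.ι ≫ p₂ = ψ ≫ p₁)
    (hψc : IsClosed (Set.range (fun w => (pullback.lift W₂.ι ψ hψ) w)))
    (k₂ : U ⟶ ↑W₂) (hk₂ : k₂ ≫ W₂.ι = j₂) (hk₂' : k₂ ≫ ψ = j₁) :
    ∃ (Y : Scheme.{u}) (q : Y ⟶ S) (i₁ : X₁ ⟶ Y) (i₂ : X₂ ⟶ Y), IsSeparated q ∧ QuasiCompact q ∧
      LocallyOfFiniteType q ∧ IsOpenImmersion i₁ ∧ IsOpenImmersion i₂ ∧ i₁ ≫ q = p₁ ∧ i₂ ≫ q = p₂ ∧
      j₁ ≫ i₁ = j₂ ≫ i₂ ∧ QuasiCompact (j₁ ≫ i₁) ∧ IsSchemeTheoreticallyDominant (j₁ ≫ i₁) := by
  haveI : IsLocallyNoetherian X₁ := LocallyOfFiniteType.isLocallyNoetherian p₁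
  haveI : IsLocallyNoetherian X₂ := LocallyOfFiniteType.isLocallyNoetherian p₂
  haveI : CompactSpace X₁ := QuasiCompact.compactSpace_of_compactSpace p₁
  haveI : CompactSpace X₂ := QuasiCompact.compactSpace_of_compactSpace p₂
  haveI : IsNoetherian X₁ := {}
  haveI : IsNoetherian X₂ := {}
  haveI : QuasiCompact j₁ := inferInstance
  haveI : QuasiCompact j₂ := inferInstance
  haveI hd₁ : IsSchemeTheoreticallyDominant k₁ := by
    refine IsSchemeTheoreticallyDominant.of_isPullback (f := j₁) (g := W₁.ι) (pX := 𝟙 U) (pY := k₁) ?_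
    refine ⟨⟨by rw [Category.id_comp, hk₁]⟩, ⟨PullbackCone.IsLimit.mk _ (fun s => s.fst)
      (fun s => Category.comp_id _) (fun s => ?_) (fun s m h _ => (Category.comp_id m).symm.trans h)⟩⟩
    rw [← cancel_mono W₁.ι, Category.assoc, hk₁, s.condition]
  haveI hd₂ : IsSchemeTheoreticallyDominant k₂ := by
    refine IsSchemeTheoreticallyDominant.of_isPullback (f := j₂) (g := W₂.ι) (pX := 𝟙 U) (pY := k₂) ?_
    refine ⟨⟨by rw [Category.id_comp, hk₂]⟩, ⟨PullbackCone.IsLimit.mk _ (fun s => s.fst)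
      (fun s => Category.comp_id _) (fun s => ?_) (fun s m h _ => (Category.comp_id m).symm.trans h)⟩⟩
    rw [← cancel_mono W₂.ι, Category.assoc, hk₂, s.condition]
  haveI : QuasiCompact k₁ := by
    haveI : QuasiCompact (k₁ ≫ W₁.ι) := by rw [hk₁]; infer_instance
    exact .of_comp k₁ W₁.ι
  haveI : QuasiCompact k₂ := by
    haveI : QuasiCompact (k₂ ≫ W₂.ι) := by rw [hk₂]; infer_instance
    exact .of_comp k₂ W₂.ι
  -- the two graphs agree
  let G₁ := pullback.lift W₁.ι φ hφ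
  let G₂ := pullback.lift ψ W₂.ι hψ.symm
  have hG₁ : IsClosed (Set.range G₁) := hφc
  have hG₂ : IsClosed (Set.range G₂) := by
    have := isClosed_range_comp_iso (pullback.lift W₂.ι ψ hψ) (pullbackSymmetry p₂ p₁) hψc
    rwa [range_lift_swap ψ W₂.ι hψ.symm] at this
  have hU : k₁ ≫ G₁ = k₂ ≫ G₂ := by
    apply pullback.hom_ext <;> simp only [G₁, G₂, hk₁, hk₁', hk₂, hk₂', pullback.map, pullback.congrHom, asIso_hom, Category.assoc, Category.comp_id, Category.id_comp, pullback.lift_fst, pullback.lift_snd, pullback.lift_fst_assoc, pullback.lift_snd_assoc, pullbackSymmetry_hom_comp_fst, pullbackSymmetry_hom_comp_snd, pullbackSymmetry_hom_comp_fst_assoc, pullbackSymmetry_hom_comp_snd_assoc, pullback.diagonal_fst, pullback.diagonal_snd]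
  have hG : Set.range G₁ = Set.range G₂ := by
    rw [range_eq_closure k₁ G₁ hG₁, range_eq_closure k₂ G₂ hG₂, hU]
  have hφW : Set.range φ ⊆ Set.range W₂.ι := by
    rintro _ ⟨w, rfl⟩
    obtain ⟨v, hv⟩ : G₁ w ∈ Set.range G₂ := hG ▸ ⟨w, rfl⟩
    refine ⟨v, ?_⟩
    have := congrArg (pullback.snd p₁ p₂) hv
    rwa [← Scheme.Hom.comp_apply, ← Scheme.Hom.comp_apply, pullback.lift_snd, pullback.lift_snd] at this
  have hψW : Set.range ψ ⊆ Set.range W₁.ι := by
    rintro _ ⟨v, rfl⟩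
    obtain ⟨w, hw⟩ : G₂ v ∈ Set.range G₁ := hG.symm ▸ ⟨v, rfl⟩
    refine ⟨w, ?_⟩
    have := congrArg (pullback.fst p₁ p₂) hw
    rwa [← Scheme.Hom.comp_apply, ← Scheme.Hom.comp_apply, pullback.lift_fst, pullback.lift_fst] at this
  let φ' := IsOpenImmersion.lift W₂.ι φ hφW
  let ψ' := IsOpenImmersion.lift W₁.ι ψ hψW
  have hφ' : φ' ≫ W₂.ι = φ := IsOpenImmersion.lift_fac _ _ _
  have hψ' : ψ' ≫ W₁.ι = ψ := IsOpenImmersion.lift_fac _ _ _
  have hkφ : k₁ ≫ φ' = k₂ := by rw [← cancel_mono W₂.ι, Category.assoc, hφ', hk₁', hk₂]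
  have hkψ : k₂ ≫ ψ' = k₁ := by rw [← cancel_mono W₁.ι, Category.assoc, hψ', hk₂', hk₁]
  have hφp : φ' ≫ W₂.ι ≫ p₂ = W₁.ι ≫ p₁ := by rw [← Category.assoc, hφ', hφ]
  have hψp : ψ' ≫ W₁.ι ≫ p₁ = W₂.ι ≫ p₂ := by rw [← Category.assoc, hψ', hψ]
  haveI : IsIso φ' := ⟨ψ', Groth.L16.Chow.ext_of_schDominant k₁ (W₁.ι ≫ p₁)
      (by rw [Category.assoc, hψp, hφp, Category.id_comp]) (by rw [reassoc_of% hkφ, hkψ, Category.comp_id]),
    Groth.L16.Chow.ext_of_schDominant k₂ (W₂.ι ≫ p₂)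
      (by rw [Category.assoc, hφp, hψp, Category.id_comp]) (by rw [reassoc_of% hkψ, hkφ, Category.comp_id])⟩
  haveI : IsOpenImmersion φ := hφ' ▸ inferInstanceAs (IsOpenImmersion (φ' ≫ W₂.ι))
  let i₁ := pushout.inl W₁.ι φ
  let i₂ := pushout.inr W₁.ι φ
  haveI h1 : IsOpenImmersion i₁ := inferInstanceAs (IsOpenImmersion (colimit.ι (span W₁.ι φ) _))
  haveI h2 : IsOpenImmersion i₂ := inferInstanceAs (IsOpenImmersion (colimit.ι (span W₁.ι φ) _))
  let q : pushout W₁.ι φ ⟶ S := pushout.desc p₁ p₂ hφ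
  have hq₁ : i₁ ≫ q = p₁ := pushout.inl_desc _ _ _
  have hq₂ : i₂ ≫ q = p₂ := pushout.inr_desc _ _ _
  have hpb : IsPullback W₁.ι φ i₁ i₂ := isPullback_pushout W₁.ι φ
  let X : Bool → Scheme.{u} := fun b => cond b X₁ X₂
  let i : ∀ b, X b ⟶ pushout W₁.ι φ
    | true => i₁
    | false => i₂
  haveI : ∀ b, IsOpenImmersion (i b) := by
    intro b; cases b
    · exact h2
    · exact h1
  have hcov : ∀ y : ↥(pushout W₁.ι φ), ∃ b, y ∈ Set.range (i b) := by
    intro y
    obtain ⟨k, x, rfl⟩ := Scheme.IsLocallyDirected.ι_jointly_surjective (span W₁.ι φ) y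
    obtain (_ | (_ | _)) := k
    · refine ⟨true, W₁.ι x, ?_⟩
      show (W₁.ι ≫ colimit.ι (span W₁.ι φ) WalkingSpan.left) x = colimit.ι (span W₁.ι φ) none x
      exact congr($(colimit.w (span W₁.ι φ) WalkingSpan.Hom.fst) x)
    · exact ⟨true, x, rfl⟩
    · exact ⟨false, x, rfl⟩
  haveI : IsSeparated q := by
    refine isSeparated_of_two q i hcov ?_
    have hdiag : ∀ {A : Scheme.{u}} (i : A ⟶ pushout W₁.ι φ) [IsOpenImmersion i] [IsSeparated (i ≫ q)],
        IsClosed (Set.range (toProd i i q)) := by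
      intro A i _ _
      have e : toProd i i q = pullback.fst i i ≫ pullback.diagonal (i ≫ q) := by
        apply pullback.hom_ext
        · simp only [toProd, pullback.map, pullback.congrHom, asIso_hom, Category.assoc, Category.comp_id, Category.id_comp, pullback.lift_fst, pullback.lift_snd, pullback.lift_fst_assoc, pullback.lift_snd_assoc, pullbackSymmetry_hom_comp_fst, pullbackSymmetry_hom_comp_snd, pullbackSymmetry_hom_comp_fst_assoc, pullbackSymmetry_hom_comp_snd_assoc, pullback.diagonal_fst, pullback.diagonal_snd]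
        · simp only [toProd, pullback.lift_snd, Category.assoc, pullback.diagonal_snd, Category.comp_id]
          exact ((cancel_mono i).1 pullback.condition).symm
      rw [e]
      exact (pullback.fst i i ≫ pullback.diagonal (i ≫ q)).isClosedEmbedding.isClosed_range
    have e12 : toProd i₁ i₂ q = hpb.isoPullback.inv ≫ G₁ ≫
        (pullback.congrHom hq₁.symm hq₂.symm).hom := by
      rw [Iso.eq_inv_comp]
      apply pullback.hom_ext <;> simp only [toProd, G₁, IsPullback.isoPullback_hom_fst, IsPullback.isoPullback_hom_snd, pullback.map, pullback.congrHom, asIso_hom, Category.assoc, Category.comp_id, Category.id_comp, pullback.lift_fst, pullback.lift_snd, pullback.lift_fst_assoc, pullback.lift_snd_assoc, pullbackSymmetry_hom_comp_fst, pullbackSymmetry_hom_comp_snd, pullbackSymmetry_hom_comp_fst_assoc, pullbackSymmetry_hom_comp_snd_assoc, pullback.diagonal_fst, pullback.diagonal_snd]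
    have h12 : IsClosed (Set.range (toProd i₁ i₂ q)) := by
      rw [e12]
      have := isClosed_range_comp_iso G₁ (pullback.congrHom hq₁.symm hq₂.symm) hG₁
      have e : Set.range (hpb.isoPullback.inv ≫ G₁ ≫ (pullback.congrHom hq₁.symm hq₂.symm).hom) =
          Set.range (G₁ ≫ (pullback.congrHom hq₁.symm hq₂.symm).hom) := by
        ext z
        refine ⟨fun ⟨w, hw⟩ => ⟨hpb.isoPullback.inv w, by rw [← hw]; rfl⟩, fun ⟨w, hw⟩ => ⟨hpb.isoPullback.hom w, ?_⟩⟩
        rw [← Scheme.Hom.comp_apply, Iso.hom_inv_id_assoc, hw]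
      rwa [e]
    have h21 : IsClosed (Set.range (toProd i₂ i₁ q)) := by
      have e : toProd i₂ i₁ q = (pullbackSymmetry i₂ i₁).hom ≫ toProd i₁ i₂ q ≫
          (pullbackSymmetry (i₁ ≫ q) (i₂ ≫ q)).hom := by
        apply pullback.hom_ext <;> simp only [toProd, pullback.map, pullback.congrHom, asIso_hom, Category.assoc, Category.comp_id, Category.id_comp, pullback.lift_fst, pullback.lift_snd, pullback.lift_fst_assoc, pullback.lift_snd_assoc, pullbackSymmetry_hom_comp_fst, pullbackSymmetry_hom_comp_snd, pullbackSymmetry_hom_comp_fst_assoc, pullbackSymmetry_hom_comp_snd_assoc, pullback.diagonal_fst, pullback.diagonal_snd]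
      have e' : Set.range (toProd i₂ i₁ q) =
          Set.range (toProd i₁ i₂ q ≫ (pullbackSymmetry (i₁ ≫ q) (i₂ ≫ q)).hom) := by
        rw [e]
        ext z
        refine ⟨fun ⟨w, hw⟩ => ⟨(pullbackSymmetry i₂ i₁).hom w, by rw [← hw]; rfl⟩,
          fun ⟨w, hw⟩ => ⟨(pullbackSymmetry i₂ i₁).inv w, ?_⟩⟩
        rw [← Scheme.Hom.comp_apply, Iso.inv_hom_id_assoc, hw]
      rw [e']
      exact isClosed_range_comp_iso _ _ h12
    haveI : IsSeparated (i₁ ≫ q) := by rw [hq₁]; infer_instance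
    haveI : IsSeparated (i₂ ≫ q) := by rw [hq₂]; infer_instance
    intro a b
    cases a <;> cases b
    · exact hdiag i₂
    · exact h21
    · exact h12
    · exact hdiag i₁
  haveI : CompactSpace ↥(pushout W₁.ι φ) := ⟨by
    have : (Set.univ : Set ↥(pushout W₁.ι φ)) = Set.range i₁ ∪ Set.range i₂ := by
      refine (Set.eq_univ_of_forall fun y => ?_).symm
      obtain ⟨b, hb⟩ := hcov y
      cases b
      · exact Or.inr hb
      · exact Or.inl hb
    rw [this]
    exact (isCompact_range i₁.continuous).union (isCompact_range i₂.continuous)⟩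
  haveI : LocallyOfFiniteType q := by
    refine IsZariskiLocalAtSource.of_openCover (P := @LocallyOfFiniteType)
      (Scheme.IsLocallyDirected.openCover (span W₁.ι φ)) fun k => ?_
    show LocallyOfFiniteType (colimit.ι (span W₁.ι φ) k ≫ q)
    obtain (_ | (_ | _)) := k
    · rw [← colimit.w (span W₁.ι φ) WalkingSpan.Hom.fst, Category.assoc]
      show LocallyOfFiniteType (W₁.ι ≫ i₁ ≫ q)
      rw [hq₁]
      infer_instance
    · show LocallyOfFiniteType (i₁ ≫ q)
      rw [hq₁]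
      infer_instance
    · show LocallyOfFiniteType (i₂ ≫ q)
      rw [hq₂]
      infer_instance
  haveI : QuasiSeparatedSpace ↥(pushout W₁.ι φ) := quasiSeparatedSpace_of_quasiSeparated q
  haveI : CompactSpace U := QuasiCompact.compactSpace_of_compactSpace j₁
  haveI : QuasiCompact q := quasiCompact_of_compactSpace q
  haveI hqc : QuasiCompact (j₁ ≫ i₁) := quasiCompact_of_compactSpace _
  have hji : j₁ ≫ i₁ = j₂ ≫ i₂ := by
    rw [← hk₁, ← hk₁', Category.assoc, Category.assoc, pushout.condition]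
  refine ⟨pushout W₁.ι φ, q, i₁, i₂, inferInstance, inferInstance, inferInstance, h1, h2, hq₁, hq₂,
    hji, hqc, ⟨?_⟩⟩
  let T := {V : (pushout W₁.ι φ).affineOpens // ∃ b, V.1 ≤ (i b).opensRange}
  refine Scheme.IdealSheafData.ext_of_iSup_eq_top (fun V : T => V.1) ?_ fun V => ?_
  · refine eq_top_iff.2 fun y _ => ?_
    obtain ⟨b, hb⟩ := hcov y
    obtain ⟨V, hV, hyV, hVb⟩ := exists_isAffineOpen_mem_and_subset (x := y) (U := (i b).opensRange) hb
    exact Opens.mem_iSup.2 ⟨⟨⟨V, hV⟩, b, hVb⟩, hyV⟩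
  obtain ⟨V, b, hVb⟩ := V
  haveI := (i b).isIso_app V.1 hVb
  rw [Scheme.Hom.ker_apply]
  apply (RingHom.injective_iff_ker_eq_bot _).1
  cases b
  · rw [hji, Scheme.Hom.comp_app]
    exact (j₂.app_injective _).comp (ConcreteCategory.bijective_of_isIso ((i false).app V.1)).1
  · rw [Scheme.Hom.comp_app]
    exact (j₁.app_injective _).comp (ConcreteCategory.bijective_of_isIso ((i true).app V.1)).1

end Groth.Agent.L24.QDomGlue
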